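import Mathlib
import Groth.Agent.EtaleDeep.PowerSeriesInverse
import Groth.Agent.SGA7.PowerSeries
import Groth.Agent.Funfld2.Plane.TwoVar

/-!
# Power series in two variables over a field: coordinate changes and plane curve germs
-/

set_option autoImplicit false

universe u

namespace Groth.ArPlane

open MvPowerSeries

variable {k : Type u} [Field k]

local notation "PS" => MvPowerSeries (Fin 2) k

/-- The first order coefficients. -/
noncomputable def dd (i : Fin 2) (P : MvPowerSeries (Fin 2) k) : k :=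
  constantCoeff (pderiv k i P)

theorem dd_add (i : Fin 2) (P Q : PS) : dd i (P + Q) = dd i P + dd i Q := by simp [dd]
theorem dd_sub (i : Fin 2) (P Q : PS) : dd i (P - Q) = dd i P - dd i Q := by simp [dd]
theorem dd_neg (i : Fin 2) (P : PS) : dd i (-P) = -dd i P := by simp [dd]
theorem dd_mul (i : Fin 2) (P Q : PS) :
    dd i (P * Q) = constantCoeff P * dd i Q + constantCoeff Q * dd i P := by simp [dd]
theorem dd_C (i : Fin 2) (c : k) : dd i (C c) = 0 := by simp [dd]
theorem dd_one (i : Fin 2) : dd i (1 : PS) = 0 := by simp [dd]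
theorem dd_X (i j : Fin 2) : dd i (X j : PS) = if i = j then 1 else 0 := by
  by_cases h : i = j
  · subst h; simp [dd]
  · simp [dd, pderiv_X_of_ne (Ne.symm h), h]

theorem dd_eq_coeff (i : Fin 2) (P : PS) : dd i P = coeff (Finsupp.single i 1) P :=
  Groth.SGA7.PS.coeff_add_single_eq P i

theorem exists_decomp (P : PS) (hP : constantCoeff P = 0) :
    ∃ A B : PS, P = X 0 * A + X 1 * B ∧ constantCoeff A = dd 0 P ∧ constantCoeff B = dd 1 P := by
  obtain ⟨h, hh, -⟩ := Groth.SGA7.PS.exists_sum_X_mul P hP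
  rw [Fin.sum_univ_two] at hh
  refine ⟨h 0, h 1, hh, ?_, ?_⟩
  · rw [hh]; simp [dd_add, dd_mul, dd_X]
  · rw [hh]; simp [dd_add, dd_mul, dd_X]

theorem exists_decomp₂ (P : PS) (hP : constantCoeff P = 0) (hd : ∀ i, dd i P = 0) :
    ∃ A B D : PS, P = X 0 * X 0 * A + X 0 * X 1 * B + X 1 * X 1 * D := by
  obtain ⟨P0, P1, e, h0, h1⟩ := exists_decomp P hP
  rw [hd] at h0 h1
  obtain ⟨A, B, eA, -, -⟩ := exists_decomp P0 h0
  obtain ⟨B', D, eB, -, -⟩ := exists_decomp P1 h1
  exact ⟨A, B + B', D, by rw [e, eA, eB]; ring⟩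

theorem two_le_order (P : PS) (hP : constantCoeff P = 0) (hd : ∀ i, dd i P = 0) :
    (2 : ℕ∞) ≤ P.order := by
  obtain ⟨A, B, D, rfl⟩ := exists_decomp₂ P hP hd
  open Groth.EtaleDeep.PSInverse in
  exact le_order_add' (le_order_add'
    (two_le_order_mul_left (two_le_order_mul (constantCoeff_X _) (constantCoeff_X _)))
    (two_le_order_mul_left (two_le_order_mul (constantCoeff_X _) (constantCoeff_X _))))
    (two_le_order_mul_left (two_le_order_mul (constantCoeff_X _) (constantCoeff_X _)))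

/-- Linear combinations with scalar coefficients. -/
noncomputable def lcomb (A : Matrix (Fin 2) (Fin 2) k) (g : Fin 2 → MvPowerSeries (Fin 2) k) :
    Fin 2 → MvPowerSeries (Fin 2) k :=
  fun i => ∑ j, C (A i j) * g j

theorem lcomb_lcomb (A B : Matrix (Fin 2) (Fin 2) k) (g : Fin 2 → PS) :
    lcomb A (lcomb B g) = lcomb (A * B) g := by
  funext i
  simp only [lcomb, Matrix.mul_apply, Fin.sum_univ_two, map_add, map_mul]
  ring

theorem lcomb_one (g : Fin 2 → PS) : lcomb 1 g = g := by
  funext i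
  fin_cases i <;> simp [lcomb, Fin.sum_univ_two, Matrix.one_apply]

theorem constantCoeff_lcomb (A : Matrix (Fin 2) (Fin 2) k) (g : Fin 2 → PS)
    (hg : ∀ i, constantCoeff (g i) = 0) (i : Fin 2) : constantCoeff (lcomb A g i) = 0 := by
  simp [lcomb, hg]

theorem subst_lcomb (A : Matrix (Fin 2) (Fin 2) k) (g : Fin 2 → PS) (hg : HasSubst g) (i : Fin 2) :
    subst g (lcomb A X i) = lcomb A g i := by
  simp only [lcomb, Fin.sum_univ_two, subst_add hg, subst_mul hg, subst_C, subst_X hg]

theorem subst_lcomb_subst (A : Matrix (Fin 2) (Fin 2) k) (g : Fin 2 → PS) (hg : HasSubst g) (p : PS) :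
    subst g (subst (lcomb A X) p) = subst (lcomb A g) p := by
  rw [subst_comp_subst_apply
    (hasSubst_of_constantCoeff_zero (constantCoeff_lcomb A X (fun i => constantCoeff_X i))) hg p]
  congr 1
  funext i
  exact subst_lcomb A g hg i

/-- The linear part of a tuple. -/
noncomputable def jac (f : Fin 2 → MvPowerSeries (Fin 2) k) : Matrix (Fin 2) (Fin 2) k :=
  Matrix.of fun i j => dd j (f i)

theorem exists_auto (f : Fin 2 → PS) (hf : ∀ i, constantCoeff (f i) = 0) (hdet : (jac f).det ≠ 0) :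
    ∃ θ : PS ≃ₐ[k] PS, (∀ i, θ (X i) = f i) ∧ ∀ p, θ p = subst f p := by
  have hu : IsUnit (jac f).det := isUnit_iff_ne_zero.mpr hdet
  set A := jac f with hA
  set B := A⁻¹ with hB
  have hAB : A * B = 1 := Matrix.mul_nonsing_inv _ hu
  have hBA : B * A = 1 := Matrix.nonsing_inv_mul _ hu
  set f' := lcomb B f with hf'
  have hf'0 : ∀ i, constantCoeff (f' i) = 0 := constantCoeff_lcomb B f hf
  have hf's : HasSubst f' := hasSubst_of_constantCoeff_zero hf'0
  have hlin : ∀ i j, dd j (f' i) = (1 : Matrix (Fin 2) (Fin 2) k) i j := by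
    intro i j
    rw [← hBA, Matrix.mul_apply]
    simp [f', lcomb, dd_add, dd_mul, dd_C, hf, Fin.sum_univ_two, A, jac]
  have hb1 : Function.Bijective (subst f' : PS → PS) := by
    refine Groth.EtaleDeep.PSInverse.bijective_subst_of_sub_X f' fun i => two_le_order _ ?_ ?_
    · simp [hf'0]
    · intro j
      rw [dd_sub, dd_X, hlin, Matrix.one_apply]
      by_cases h : i = j <;> simp [h, eq_comm]
  have hX : ∀ M : Matrix (Fin 2) (Fin 2) k, HasSubst (lcomb M (X : Fin 2 → PS)) := fun M =>
    hasSubst_of_constantCoeff_zero (constantCoeff_lcomb M X (fun i => constantCoeff_X i))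
  have hb2 : Function.Bijective (subst (lcomb A X) : PS → PS) := by
    refine Function.bijective_iff_has_inverse.2 ⟨subst (lcomb B X), fun p => ?_, fun p => ?_⟩
    · rw [subst_lcomb_subst A _ (hX B), lcomb_lcomb, hAB, lcomb_one, subst_self, id_eq]
    · rw [subst_lcomb_subst B _ (hX A), lcomb_lcomb, hBA, lcomb_one, subst_self, id_eq]
  have hfs : HasSubst f := hasSubst_of_constantCoeff_zero hf
  have heq : (subst f : PS → PS) = subst f' ∘ subst (lcomb A X) := by
    funext p
    rw [Function.comp_apply, subst_lcomb_subst A f' hf's, hf', lcomb_lcomb, hAB, lcomb_one]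
  refine ⟨Groth.EtaleDeep.PSInverse.substEquiv f hfs (heq ▸ hb1.comp hb2), fun i => ?_, fun p => ?_⟩
  · rw [Groth.EtaleDeep.PSInverse.substEquiv_apply, subst_X hfs]
  · rw [Groth.EtaleDeep.PSInverse.substEquiv_apply]

/-- The germ `PS/(F)`. -/
abbrev germ (F : MvPowerSeries (Fin 2) k) : Type u := MvPowerSeries (Fin 2) k ⧸ Ideal.span {F}

theorem germ_equiv (θ : PS ≃ₐ[k] PS) {F G v : PS} (hv : IsUnit v) (h : θ G = F * v) :
    Nonempty (germ F ≃ₐ[k] germ G) := by
  refine ⟨(Ideal.quotientEquivAlg (Ideal.span {G}) (Ideal.span {F}) θ ?_).symm⟩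
  rw [Ideal.map_span, Set.image_singleton]
  show Ideal.span {F} = Ideal.span {θ G}
  rw [h]
  exact (Ideal.span_singleton_mul_right_unit hv F).symm

theorem exists_other (W : PS) (h : ∃ i, dd i W ≠ 0) :
    ∃ j, (jac ![W, X j]).det ≠ 0 ∧ (jac ![X j, W]).det ≠ 0 := by
  obtain ⟨i, hi⟩ := h
  fin_cases i
  · exact ⟨1, by simpa [jac, Matrix.det_fin_two, dd_X] using hi,
      by simpa [jac, Matrix.det_fin_two, dd_X] using hi⟩
  · exact ⟨0, by simpa [jac, Matrix.det_fin_two, dd_X] using hi,
      by simpa [jac, Matrix.det_fin_two, dd_X] using hi⟩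

theorem prime_X_zero : Prime (X 0 : PS) := by
  rw [← MulEquiv.prime_iff (Groth.Funfld2.Plane.equivMv k).toMulEquiv]
  have : Groth.Funfld2.Plane.equivMv k (X 0) = PowerSeries.X := by
    simp [Groth.Funfld2.Plane.equivMv, MvPowerSeries.finSuccEquiv_X_zero, PowerSeries.mapAlgHom_apply]
  show Prime (Groth.Funfld2.Plane.equivMv k (X 0))
  rw [this]
  exact PowerSeries.X_prime

theorem prime_of_dd (W : PS) (h0 : constantCoeff W = 0) (h : ∃ i, dd i W ≠ 0) : Prime W := by
  obtain ⟨j, hj, -⟩ := exists_other W h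
  obtain ⟨θ, hθ, -⟩ := exists_auto ![W, X j]
    (fun i => by fin_cases i <;> simp [h0]) hj
  have := (MulEquiv.prime_iff θ.toMulEquiv).mpr (prime_X_zero (k := k))
  change Prime (θ (X 0)) at this
  rwa [hθ] at this

theorem constantCoeff_of_dvd_pow {F W : PS} {n : ℕ} (hF : constantCoeff F = 0) (h : F ∣ W ^ n) :
    constantCoeff W = 0 := by
  obtain ⟨r, hr⟩ := h
  have := congrArg constantCoeff hr
  rw [map_pow, map_mul, hF, zero_mul] at this
  exact eq_zero_of_pow_eq_zero this

/-- A germ isomorphic to the double line has equation a square of a regular parameter. -/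
theorem exists_sq_of_equiv (F : PS) (e : germ F ≃ₐ[k] germ ((X 1 : PS) ^ 2)) :
    ∃ u W : PS, IsUnit u ∧ constantCoeff W = 0 ∧ (∃ i, dd i W ≠ 0) ∧ F = u * W ^ 2 := by
  set J := Ideal.span ({(X 1 : PS) ^ 2} : Set PS) with hJ
  set I := Ideal.span ({F} : Set PS) with hI
  have hJ0 : ∀ P ∈ J, constantCoeff P = 0 ∧ dd 1 P = 0 := by
    intro P hP
    obtain ⟨r, rfl⟩ := Ideal.mem_span_singleton.mp hP
    simp [dd_mul, pow_two, dd_X]
  have hX1 : (X 1 : PS) ∉ J := fun h => by simpa [dd_X] using (hJ0 _ h).2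
  have hF0 : constantCoeff F = 0 := by
    by_contra h
    have hu : IsUnit F := MvPowerSeries.isUnit_iff_constantCoeff.mpr (isUnit_iff_ne_zero.mpr h)
    haveI : Subsingleton (germ F) :=
      Ideal.Quotient.subsingleton_iff.mpr (Ideal.span_singleton_eq_top.mpr hu)
    haveI := e.symm.toEquiv.subsingleton
    exact hX1 (Ideal.Quotient.eq_zero_iff_mem.mp (Subsingleton.elim _ _))
  obtain ⟨W, hW⟩ := Ideal.Quotient.mk_surjective (e.symm (Ideal.Quotient.mk J (X 1)))
  have hW2 : F ∣ W ^ 2 := by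
    rw [← Ideal.mem_span_singleton, ← Ideal.Quotient.eq_zero_iff_mem, map_pow, hW, ← map_pow,
      ← map_pow, Ideal.Quotient.eq_zero_iff_mem.mpr (Ideal.mem_span_singleton_self _), map_zero]
  have hW0 := constantCoeff_of_dvd_pow hF0 hW2
  have hFd : ∀ i, dd i F = 0 := by
    by_contra h
    push Not at h
    have hp := prime_of_dd F hF0 h
    have : W ∈ I := Ideal.mem_span_singleton.mpr (hp.dvd_of_dvd_pow hW2)
    rw [← Ideal.Quotient.eq_zero_iff_mem, hW, map_eq_zero_iff _ e.symm.injective,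
      Ideal.Quotient.eq_zero_iff_mem] at this
    exact hX1 this
  have hWd : ∃ i, dd i W ≠ 0 := by
    by_contra h
    push Not at h
    obtain ⟨A, B, D, hdec⟩ := exists_decomp₂ W hW0 h
    have hU : ∀ i : Fin 2, ∃ U : PS, Ideal.Quotient.mk J U = e (Ideal.Quotient.mk I (X i)) ∧
        constantCoeff U = 0 := by
      intro i
      obtain ⟨U, hU⟩ := Ideal.Quotient.mk_surjective (e (Ideal.Quotient.mk I (X i)))
      refine ⟨U, hU, ?_⟩
      by_contra hne
      have hu : IsUnit (e (Ideal.Quotient.mk I (X i))) := hU ▸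
        (MvPowerSeries.isUnit_iff_constantCoeff.mpr (isUnit_iff_ne_zero.mpr hne)).map _
      have hu' : IsUnit (Ideal.Quotient.mk I (X i)) := by simpa using hu.map e.symm
      obtain ⟨z, hz⟩ := hu'.exists_right_inv
      obtain ⟨Z, rfl⟩ := Ideal.Quotient.mk_surjective z
      rw [← map_mul, ← map_one (Ideal.Quotient.mk I), Ideal.Quotient.eq,
        Ideal.mem_span_singleton] at hz
      obtain ⟨r, hr⟩ := hz
      simpa [hF0] using congrArg constantCoeff hr
    choose U hU hU0 using hU
    have he : ∀ P : PS, ∃ P' : PS, Ideal.Quotient.mk J P' = e (Ideal.Quotient.mk I P) := fun P =>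
      Ideal.Quotient.mk_surjective _
    obtain ⟨A', hA'⟩ := he A
    obtain ⟨B', hB'⟩ := he B
    obtain ⟨D', hD'⟩ := he D
    have : Ideal.Quotient.mk J (X 1) =
        Ideal.Quotient.mk J (U 0 * U 0 * A' + U 0 * U 1 * B' + U 1 * U 1 * D') := by
      have h1 := congrArg e hW
      rw [AlgEquiv.apply_symm_apply] at h1
      rw [← h1, hdec]
      simp only [map_add, map_mul, hU, hA', hB', hD']; rfl
    have h2 := (hJ0 _ (Ideal.Quotient.eq.mp this)).2
    simp [dd_sub, dd_add, dd_mul, dd_X, hU0] at h2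
  obtain ⟨n, hn, hass⟩ := (dvd_prime_pow (prime_of_dd W hW0 hWd) 2).mp hW2
  obtain ⟨u, hu⟩ := hass.symm
  have hF : F = W ^ n * (u : PS) := hu.symm
  interval_cases n
  · exfalso
    rw [hF] at hF0
    simp only [pow_zero, one_mul] at hF0
    exact (MvPowerSeries.isUnit_iff_constantCoeff.mp u.isUnit).ne_zero hF0
  · exfalso
    obtain ⟨i, hi⟩ := hWd
    have := hFd i
    rw [hF, pow_one, dd_mul, hW0, zero_mul, zero_add] at this
    exact mul_ne_zero (MvPowerSeries.isUnit_iff_constantCoeff.mp u.isUnit).ne_zero hi this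
  · exact ⟨u, W, u.isUnit, hW0, hWd, by rw [hF, mul_comm]⟩

/-! ### Translation of polynomials -/

/-- The Taylor series at `a`. -/
noncomputable def tay (a : Fin 2 → k) : MvPolynomial (Fin 2) k →+* MvPowerSeries (Fin 2) k :=
  MvPolynomial.coeToMvPowerSeries.ringHom.comp
    (MvPolynomial.aeval (fun i : Fin 2 => MvPolynomial.X i + MvPolynomial.C (a i)) :
      MvPolynomial (Fin 2) k →ₐ[k] MvPolynomial (Fin 2) k).toRingHom

theorem tay_eq (a : Fin 2 → k) (f : MvPolynomial (Fin 2) k) :
    tay a f = ((MvPolynomial.aeval (fun i : Fin 2 => MvPolynomial.X i + MvPolynomial.C (a i)) f :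
      MvPolynomial (Fin 2) k) : MvPowerSeries (Fin 2) k) := rfl

@[simp] theorem tay_C (a : Fin 2 → k) (c : k) : tay a (MvPolynomial.C c) = C c := by
  simp [tay_eq]

@[simp] theorem tay_X (a : Fin 2 → k) (i : Fin 2) : tay a (MvPolynomial.X i) = X i + C (a i) := by
  simp [tay_eq]

theorem constantCoeff_tay (a : Fin 2 → k) (f : MvPolynomial (Fin 2) k) :
    constantCoeff (tay a f) = MvPolynomial.eval a f := by
  induction f using MvPolynomial.induction_on with
  | C c => simp
  | add p q hp hq => simp [hp, hq]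
  | mul_X p i hp => simp [hp]

theorem tay_pderiv (a : Fin 2 → k) (f : MvPolynomial (Fin 2) k) (i : Fin 2) :
    tay a (MvPolynomial.pderiv i f) = pderiv k i (tay a f) := by
  induction f using MvPolynomial.induction_on with
  | C c => simp
  | add p q hp hq => simp [hp, hq]
  | mul_X p j hp =>
    by_cases h : j = i
    · subst h; simp [hp]
    · simp [hp, MvPolynomial.pderiv_X_of_ne h, pderiv_X_of_ne h]

theorem dd_tay (a : Fin 2 → k) (f : MvPolynomial (Fin 2) k) (i : Fin 2) :
    dd i (tay a f) = MvPolynomial.eval a (MvPolynomial.pderiv i f) := by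
  rw [dd, ← tay_pderiv, constantCoeff_tay]

end Groth.ArPlane
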